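import Groth.Prelude.Def_AlgGrp
import Groth.Agent.H87.CentralExt
import Groth.Agent.H87.Normal
import Groth.Agent.Lib.GrpSch.Basic

/-!
# Bimultiplicative maps out of connected groups into groups of multiplicative type
-/

set_option autoImplicit false
set_option linter.style.haveILetI false
set_option backward.isDefEq.respectTransparency false
universe u

open CategoryTheory CategoryTheory.Limits MonoidalCategory CartesianMonoidalCategory MonObj GrpObj AlgebraicGeometry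

namespace Groth.Agent.Lib.MTAct

variable {S : Scheme.{u}} {G H N Hq Z : Over S} [GrpObj G] [GrpObj H] [GrpObj N] [GrpObj Hq] [GrpObj Z]

/-- A pairing `G ⊗ H ⟶ Z`, multiplicative in the second variable and killing `N`, is trivial when `H/N` and
`Z` are of multiplicative type and `G` has connected fibres. -/
theorem pairing_trivial_of_quot (iN : N ⟶ H) (p : H ⟶ Hq) [IsMonHom p]
    [Flat p.left] [Surjective p.left] [LocallyOfFinitePresentation p.left]
    (hp : AlgGrp.IsKernel iN p) (hHq : SGA3x.IsMultTypeFT Hq) (hZ : SGA3x.IsMultTypeFT Z)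
    (hconn : ∀ s : S, ConnectedSpace ↥(Limits.pullback G.hom (S.fromSpecResidueField s)))
    (f : G ⊗ H ⟶ Z)
    (hadd : ∀ (W : Over S) (g : W ⟶ G) (h h' : W ⟶ H), lift g (h * h') ≫ f = (lift g h ≫ f) * (lift g h' ≫ f))
    (hN : ∀ (W : Over S) (g : W ⟶ G) (n : W ⟶ N), lift g (n ≫ iN) ≫ f = 1)
    (hone : ∀ (W : Over S) (h : W ⟶ H), lift 1 h ≫ f = 1) :
    ∀ (W : Over S) (g : W ⟶ G) (h : W ⟶ H), lift g h ≫ f = 1 := by
  let c : G ⊗ H ⟶ G ⊗ Hq := G ◁ p
  haveI : Surjective c.left := GrpSch.whiskerLeft_left_of (P := @Surjective) G p ‹_›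
  haveI : Flat c.left := GrpSch.whiskerLeft_left_of (P := @Flat) G p ‹_›
  haveI : LocallyOfFinitePresentation c.left :=
    GrpSch.whiskerLeft_left_of (P := @LocallyOfFinitePresentation) G p ‹_›
  have hinv : ∀ (W : Over S) (a b : W ⟶ G ⊗ H), a ≫ c = b ≫ c → a ≫ f = b ≫ f := by
    intro W a b hab
    have h1 : a ≫ fst G H = b ≫ fst G H := by
      simpa [c] using congrArg (· ≫ fst G Hq) hab
    have h2 : (a ≫ snd G H) ≫ p = (b ≫ snd G H) ≫ p := by
      simpa [c] using congrArg (· ≫ snd G Hq) hab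
    have h3 : ((a ≫ snd G H)⁻¹ * (b ≫ snd G H)) ≫ p = toUnit W ≫ η[Hq] := by
      rw [MonObj.mul_comp _ _ p, GrpObj.inv_comp _ p, h2, inv_mul_cancel, Hom.one_def]
    obtain ⟨n, hn⟩ : ∃ n : W ⟶ N, n ≫ iN = (a ≫ snd G H)⁻¹ * (b ≫ snd G H) :=
      ⟨hp.lift _ _ h3, hp.lift_fst _ _ _⟩
    have hb : b = lift (a ≫ fst G H) ((a ≫ snd G H) * (n ≫ iN)) := by
      rw [hn, mul_inv_cancel_left, h1]
      exact (lift_comp_fst_snd b).symm
    rw [hb, hadd, hN, _root_.mul_one, lift_comp_fst_snd]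
  obtain ⟨κ, hκ⟩ := Groth.Agent.H87.CentralExt.exists_desc c f hinv
  have hspec : ∀ (W : Over S) (g : W ⟶ G) (h : W ⟶ H), lift g (h ≫ p) ≫ κ = lift g h ≫ f := by
    intro W g h
    rw [← hκ, ← Category.assoc, lift_whiskerLeft]
  haveI : IsAffineHom Z.hom := Groth.Agent.H87.MT.isAffineHom hZ
  have := Groth.Agent.H87.CentralExt.pairing_trivial hHq
    (Or.inr (Groth.Agent.H87.MT.locallyOfFinitePresentation hZ)) hconn κ (fun W g h h' => ?_) (fun W h => ?_)
  · intro W g h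
    rw [← hspec, this]
  · obtain ⟨W₁, c₁, x, hx, _, _, _⟩ := Lib.GrpQ.ThirdIso.exists_lift p h
    obtain ⟨W₂, c₂, x', hx', _, _, _⟩ := Lib.GrpQ.ThirdIso.exists_lift p (c₁ ≫ h')
    haveI := Groth.Agent.H87.CentralExt.epi_of_cover c₁
    haveI := Groth.Agent.H87.CentralExt.epi_of_cover c₂
    rw [← cancel_epi c₁, ← cancel_epi c₂]
    simp only [MonObj.comp_mul, comp_lift_assoc]
    rw [← hx', ← hx, ← Category.assoc c₂ x p, ← MonObj.mul_comp _ _ p, hspec, hspec, hspec, hadd]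
  · obtain ⟨W₁, c₁, x, hx, _, _, _⟩ := Lib.GrpQ.ThirdIso.exists_lift p h
    haveI := Groth.Agent.H87.CentralExt.epi_of_cover c₁
    rw [← cancel_epi c₁]
    simp only [comp_lift_assoc, MonObj.comp_one]
    rw [← hx, hspec, hone]

end Groth.Agent.Lib.MTAct
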